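import Mathlib

/-!
Full faithfulness of quotients of a full abelian subcategory by a Serre subcategory.
-/

set_option autoImplicit false
set_option linter.style.haveILetI false
universe v v' v'' u u' u''
open CategoryTheory CategoryTheory.Limits

namespace SerreFF13

variable {A A' : Type u} [Category.{v} A] [Abelian A] [Category.{v} A'] [Abelian A']
  (i : A' ⥤ A) [i.Full] [i.Faithful] [PreservesFiniteLimits i] [PreservesFiniteColimits i]
  (J : ObjectProperty A) [J.IsSerreClass] [(J.inverseImage i).IsSerreClass]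

theorem main
    (hsub : ∀ (M : A') (N : A) (f : N ⟶ i.obj M), Mono f → J N → i.essImage N)
    (hquot : ∀ (M : A') (N : A) (p : i.obj M ⟶ N), Epi p → J N → i.essImage N)
    {Q : Type u'} [Category.{v'} Q] (L : A ⥤ Q) [L.IsLocalization J.isoModSerre]
    {Q' : Type u''} [Category.{v''} Q'] (L' : A' ⥤ Q') [L'.IsLocalization (J.inverseImage i).isoModSerre]
    (Φ : Q' ⥤ Q) (e : L' ⋙ Φ ≅ i ⋙ L) : Φ.Full ∧ Φ.Faithful := by
  haveI := Localization.essSurj L' (J.inverseImage i).isoModSerre
  haveI : i.Additive := Functor.additive_of_preserves_binary_products i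
  have hI : ∀ {Z W : A} (s : Z ⟶ W), J.isoModSerre s → IsIso (L.map s) :=
    fun s hs => Localization.inverts L J.isoModSerre s hs
  have hI' : ∀ {Z W : A'} (s : Z ⟶ W), (J.inverseImage i).isoModSerre s → IsIso (L'.map s) :=
    fun s hs => Localization.inverts L' (J.inverseImage i).isoModSerre s hs
  have hcoker : ∀ {Z W : A'} (m : Z ⟶ W), J (cokernel (i.map m)) → (J.inverseImage i) (cokernel m) :=
    fun m hm => J.prop_of_iso (PreservesCokernel.iso i m).symm hm
  have hker : ∀ {Z W : A'} (m : Z ⟶ W), J (kernel (i.map m)) → (J.inverseImage i) (kernel m) :=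
    fun m hm => J.prop_of_iso (PreservesKernel.iso i m).symm hm
  -- subobjects with cokernel in `J` come from `A'`
  have hA : ∀ (X : A') (X₀ : A) (m : X₀ ⟶ i.obj X) [Mono m], J.isoModSerre m →
      ∃ (X₀' : A') (m' : X₀' ⟶ X) (a : i.obj X₀' ≅ X₀),
        a.hom ≫ m = i.map m' ∧ (J.inverseImage i).isoModSerre m' := by
    intro X X₀ m _ hm
    have hc : J (cokernel m) := (ObjectProperty.isoModSerre_iff_of_mono J m).mp hm
    obtain ⟨Q₀, ⟨b⟩⟩ := hquot X _ (cokernel.π m) inferInstance hc
    obtain ⟨π', hπ'⟩ := i.map_surjective (cokernel.π m ≫ b.inv)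
    have hw : i.map (kernel.ι π') ≫ cokernel.π m = 0 := by
      rw [← cancel_mono b.inv, Category.assoc, ← hπ', ← i.map_comp, kernel.condition, i.map_zero, zero_comp]
    have hk : m ≫ i.map π' = 0 := by rw [hπ', cokernel.condition_assoc, zero_comp]
    let a : i.obj (kernel π') ≅ X₀ :=
      { hom := Abelian.monoLift m (i.map (kernel.ι π')) hw
        inv := kernel.lift (i.map π') m hk ≫ (PreservesKernel.iso i π').inv
        hom_inv_id := by
          rw [← cancel_mono (i.map (kernel.ι π'))]
          simp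
        inv_hom_id := by
          rw [← cancel_mono m]
          simp }
    refine ⟨kernel π', kernel.ι π', a, Abelian.monoLift_comp _ _ _, ?_⟩
    rw [ObjectProperty.isoModSerre_iff_of_mono]
    refine hcoker _ (J.prop_of_iso ?_ hc)
    exact (cokernel.mapIso (i.map (kernel.ι π')) m a (Iso.refl _) (by
      rw [Iso.refl_hom, Category.comp_id]; exact (Abelian.monoLift_comp _ _ _).symm)).symm
  -- quotients with kernel in `J` come from `A'`
  have hB : ∀ (Y : A') (Y₁ : A) (q : i.obj Y ⟶ Y₁) [Epi q], J.isoModSerre q →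
      ∃ (Y₁' : A') (q' : Y ⟶ Y₁') (b : Y₁ ≅ i.obj Y₁'),
        q ≫ b.hom = i.map q' ∧ (J.inverseImage i).isoModSerre q' := by
    intro Y Y₁ q _ hq
    have hc : J (kernel q) := (ObjectProperty.isoModSerre_iff_of_epi J q).mp hq
    obtain ⟨K₀, ⟨b⟩⟩ := hsub Y _ (kernel.ι q) inferInstance hc
    obtain ⟨ι', hι'⟩ := i.map_surjective (b.hom ≫ kernel.ι q)
    have hw : kernel.ι q ≫ i.map (cokernel.π ι') = 0 := by
      rw [← cancel_epi b.hom, ← Category.assoc, ← hι', ← i.map_comp, cokernel.condition, i.map_zero, comp_zero]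
    have hk : i.map ι' ≫ q = 0 := by rw [hι', Category.assoc, kernel.condition, comp_zero]
    let a : Y₁ ≅ i.obj (cokernel ι') :=
      { hom := Abelian.epiDesc q (i.map (cokernel.π ι')) hw
        inv := (PreservesCokernel.iso i ι').hom ≫ cokernel.desc (i.map ι') q hk
        hom_inv_id := by
          rw [← cancel_epi q]
          simp
        inv_hom_id := by
          rw [← cancel_epi (i.map (cokernel.π ι'))]
          simp }
    refine ⟨cokernel ι', cokernel.π ι', a, Abelian.comp_epiDesc _ _ _, ?_⟩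
    rw [ObjectProperty.isoModSerre_iff_of_epi]
    refine hker _ (J.prop_of_iso ?_ hc)
    exact kernel.mapIso q (i.map (cokernel.π ι')) (Iso.refl _) a (by
      rw [Iso.refl_hom, Category.id_comp]; exact Abelian.comp_epiDesc _ _ _)
  constructor
  · suffices hfull : ∀ (X Y : A') (φ : Φ.obj (L'.obj X) ⟶ Φ.obj (L'.obj Y)), ∃ ψ, Φ.map ψ = φ by
      refine ⟨fun {X Y} φ => ?_⟩
      obtain ⟨ψ, hψ⟩ := hfull _ _
        (Φ.map (L'.objObjPreimageIso X).hom ≫ φ ≫ Φ.map (L'.objObjPreimageIso Y).inv)
      refine ⟨(L'.objObjPreimageIso X).inv ≫ ψ ≫ (L'.objObjPreimageIso Y).hom, ?_⟩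
      rw [Φ.map_comp, Φ.map_comp, hψ]
      simp only [Category.assoc]
      erw [← Φ.map_comp_assoc, ← Φ.map_comp, Iso.inv_hom_id, Iso.inv_hom_id, Φ.map_id, Φ.map_id,
        Category.id_comp, Category.comp_id]
    intro X Y φ
    let χ : L.obj (i.obj X) ⟶ L.obj (i.obj Y) := e.inv.app X ≫ φ ≫ e.hom.app Y
    obtain ⟨r, hr⟩ := Localization.exists_rightFraction L J.isoModSerre χ
    have hr' : L.map r.s ≫ χ = L.map r.f := by
      rw [hr]; exact r.map_s_comp_map L (Localization.inverts L J.isoModSerre)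
    let p := Abelian.factorThruImage r.s
    let m := Abelian.image.ι r.s
    have hp : J.isoModSerre p := r.hs.1.isoModSerre_factorThruImage
    have hm : J.isoModSerre m := r.hs.2.isoModSerre_image_ι
    have hK : J (kernel p) := (ObjectProperty.isoModSerre_iff_of_epi J p).mp hp
    let q := cokernel.π (kernel.ι p ≫ r.f)
    have hq : J.isoModSerre q := by
      rw [ObjectProperty.isoModSerre_iff_of_epi]
      exact J.prop_of_epi (Abelian.factorThruImage (kernel.ι p ≫ r.f)) hK
    let g := Abelian.epiDesc p (r.f ≫ q) (by rw [← Category.assoc]; exact cokernel.condition _)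
    have hg : L.map m ≫ χ ≫ L.map q = L.map g := by
      haveI := hI p hp
      rw [← cancel_epi (L.map p), ← Category.assoc, ← L.map_comp, Abelian.image.fac, ← Category.assoc,
        hr', ← L.map_comp, ← L.map_comp, Abelian.comp_epiDesc]
    obtain ⟨X₀, m', a, ha, hm'⟩ := hA X _ m hm
    obtain ⟨Y₁, q', b, hb, hq'⟩ := hB Y _ q hq
    obtain ⟨g', hg'⟩ := i.map_surjective (a.hom ≫ g ≫ b.hom)
    haveI := hI' m' hm'
    haveI := hI' q' hq'
    refine ⟨inv (L'.map m') ≫ L'.map g' ≫ inv (L'.map q'), ?_⟩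
    have key : L.map (i.map m') ≫ χ ≫ L.map (i.map q') = L.map (i.map g') := by
      rw [← ha, ← hb, hg', L.map_comp, L.map_comp, L.map_comp, L.map_comp, ← hg]
      simp only [Category.assoc]
    have nat : ∀ {Z W : A'} (f : Z ⟶ W), L.map (i.map f) = e.inv.app Z ≫ Φ.map (L'.map f) ≫ e.hom.app W :=
      fun f => by
        rw [show Φ.map (L'.map f) ≫ e.hom.app _ = e.hom.app _ ≫ L.map (i.map f) from e.hom.naturality f,
          Iso.inv_hom_id_app_assoc]
    simp only [nat, χ, Category.assoc, Iso.hom_inv_id_app_assoc, cancel_epi] at key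
    rw [Φ.map_comp, Φ.map_comp, Functor.map_inv, Functor.map_inv, ← cancel_epi (Φ.map (L'.map m')),
      ← cancel_mono (Φ.map (L'.map q'))]
    simp only [Category.assoc, IsIso.hom_inv_id_assoc, IsIso.inv_hom_id, Category.comp_id]
    rw [← cancel_mono (e.hom.app Y₁), Category.assoc, Category.assoc]
    exact key.symm
  · have hff : ∀ {Z W : A'} (f g : Z ⟶ W), Φ.map (L'.map f) = Φ.map (L'.map g) → L'.map f = L'.map g := by
      intro Z W f g h
      have h2 : L.map (i.map f) = L.map (i.map g) := by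
        rw [← cancel_epi (e.hom.app Z)]
        exact (e.hom.naturality f).symm.trans ((congrArg (· ≫ e.hom.app W) h).trans (e.hom.naturality g))
      rw [MorphismProperty.map_eq_iff_precomp L J.isoModSerre] at h2
      obtain ⟨Z', s, hs, hsfg⟩ := h2
      have him : J (Abelian.image (i.map (f - g))) :=
        (ObjectProperty.exists_isoModSerre_comp_eq_zero_iff J _).mp
          ⟨Z', s, hs, by rw [i.map_sub, Preadditive.comp_sub, hsfg, sub_self]⟩
      rw [MorphismProperty.map_eq_iff_precomp L' (J.inverseImage i).isoModSerre]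
      refine ⟨kernel (f - g), kernel.ι (f - g), ?_, by rw [← sub_eq_zero, ← Preadditive.comp_sub, kernel.condition]⟩
      rw [ObjectProperty.isoModSerre_iff_of_mono]
      refine hcoker _ (J.prop_of_iso ?_ (J.prop_of_iso (Abelian.coimageIsoImage (i.map (f - g))).symm him))
      exact (cokernel.mapIso (i.map (kernel.ι (f - g))) (kernel.ι (i.map (f - g)))
        (PreservesKernel.iso i (f - g)) (Iso.refl _) (by simp)).symm
    refine ⟨fun {X Y} φ ψ h => ?_⟩
    let u := L'.objObjPreimageIso X
    let v := L'.objObjPreimageIso Y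
    obtain ⟨r, h1, h2⟩ := Localization.exists_leftFraction₂ L' (J.inverseImage i).isoModSerre
      (u.hom ≫ φ ≫ v.inv) (u.hom ≫ ψ ≫ v.inv)
    haveI := hI' r.s r.hs
    have h3 : (u.hom ≫ φ ≫ v.inv) ≫ L'.map r.s = L'.map r.f := by
      rw [h1]; exact r.fst.map_comp_map_s L' (Localization.inverts L' _)
    have h4 : (u.hom ≫ ψ ≫ v.inv) ≫ L'.map r.s = L'.map r.f' := by
      rw [h2]; exact r.snd.map_comp_map_s L' (Localization.inverts L' _)
    have h5 : Φ.map (L'.map r.f) = Φ.map (L'.map r.f') := by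
      rw [← h3, ← h4]; simp only [Functor.map_comp, h]
    have h6 := hff r.f r.f' h5
    rw [← h3, ← h4, cancel_mono, cancel_epi, cancel_mono] at h6
    exact h6

end SerreFF13
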